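/-
Height-one primes of invariant rings with trivial residue extension are principal.
-/
import Mathlib

universe u

noncomputable section

namespace Groth.Agent.InvPrincipal

open IsLocalRing TensorProduct

variable {B A : Type u} [CommRing B] [CommRing A] [IsDomain A] [Algebra B A] [FaithfulSMul B A]
  {G : Type u} [Group G] [MulSemiringAction G A] [SMulCommClass G B A] [Algebra.IsInvariant B A G]

omit [IsDomain A] [FaithfulSMul B A] [SMulCommClass G B A] in
theorem isIntegrallyClosed_invariants [IsDomain B] [IsDomain A] [FaithfulSMul B A] [SMulCommClass G B A]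
    [IsIntegrallyClosed A] : IsIntegrallyClosed B := by
  have hinj : Function.Injective (algebraMap B A) := (faithfulSMul_iff_algebraMap_injective B A).1 inferInstance
  refine (isIntegrallyClosed_iff (FractionRing B)).2 fun {x} hx => ?_
  let j : FractionRing B →+* FractionRing A :=
    IsFractionRing.map hinj
  have hj : ∀ b : B, j (algebraMap B _ b) = algebraMap A _ (algebraMap B A b) := fun b => IsLocalization.map_eq _ b
  obtain ⟨P, hP, hP0⟩ := hx
  have hxA : IsIntegral A (j x) := by
    refine ⟨P.map (algebraMap B A), hP.map _, ?_⟩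
    rw [Polynomial.eval₂_map]
    have := congrArg j hP0
    rw [Polynomial.hom_eval₂, map_zero] at this
    rw [← this]
    congr 1
    exact RingHom.ext fun b => (hj b).symm
  obtain ⟨a, ha⟩ := IsIntegrallyClosed.isIntegral_iff.1 hxA
  obtain ⟨b, ⟨c, hc⟩, rfl⟩ := IsLocalization.exists_mk'_eq (nonZeroDivisors B) x
  have hc0 : algebraMap B A c ≠ 0 := fun h => nonZeroDivisors.ne_zero hc (hinj (h.trans (map_zero _).symm))
  have hac : a * algebraMap B A c = algebraMap B A b := by
    apply IsFractionRing.injective A (FractionRing A)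
    rw [map_mul, ha, ← hj, ← hj, ← map_mul]
    exact congrArg j (IsLocalization.mk'_spec _ b ⟨c, hc⟩)
  obtain ⟨a₀, ha₀⟩ := Algebra.IsInvariant.isInvariant (A := B) (G := G) a fun g => by
    refine mul_right_cancel₀ hc0 ?_
    rw [← smul_algebraMap g c, ← smul_mul', hac, smul_algebraMap, smul_algebraMap, hac]
  refine ⟨a₀, ?_⟩
  rw [← ha₀, ← map_mul] at hac
  exact IsLocalization.eq_mk'_iff_mul_eq.2 (by rw [← map_mul, hinj hac])

theorem finrank_fiber_eq [IsDomain B] [Module.Finite B A] (q : Ideal B) [q.IsPrime]
    [IsDiscreteValuationRing (Localization.AtPrime q)] :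
    Module.finrank q.ResidueField (q.Fiber A) = Module.finrank B A := by
  let Rp := Localization.AtPrime q
  let Mp := LocalizedModule.AtPrime q A
  let K := FractionRing B
  haveI : Module.IsTorsionFree Rp Mp := by
    refine Module.isTorsionFree_iff_smul_eq_zero.2 fun r x h => ?_
    induction x using LocalizedModule.induction_on with
    | _ a t =>
    obtain ⟨b, s, rfl⟩ := IsLocalization.exists_mk'_eq q.primeCompl r
    rw [← Localization.mk_eq_mk'] at h ⊢
    replace h := (LocalizedModule.mk_smul_mk b a s t).symm.trans h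
    rw [ ← LocalizedModule.zero_mk (1 : q.primeCompl), LocalizedModule.mk_eq] at h
    obtain ⟨u, hu⟩ := h
    simp only [smul_zero, one_smul, Submonoid.smul_def] at hu
    rw [smul_smul, Algebra.smul_def, mul_eq_zero] at hu
    rcases hu with hu | hu
    · rw [map_eq_zero_iff _ ((faithfulSMul_iff_algebraMap_injective B A).1 inferInstance), mul_eq_zero] at hu
      rcases hu with hu | hu
      · exact absurd (hu ▸ zero_mem q) u.2
      · left; rw [hu, Localization.mk_zero]
    · right; rw [hu, LocalizedModule.zero_mk]
  haveI : Module.Finite Rp Mp := Module.Finite.of_isLocalizedModule q.primeCompl (LocalizedModule.mkLinearMap q.primeCompl A)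
  haveI : Module.Free Rp Mp := inferInstance
  let e : q.ResidueField ⊗[Rp] Mp ≃ₗ[q.ResidueField] q.Fiber A :=
    (LocalizedModule.equivTensorProduct q.primeCompl A).baseChange Rp q.ResidueField Mp _ ≪≫ₗ
      TensorProduct.AlgebraTensorModule.cancelBaseChange B Rp q.ResidueField q.ResidueField A
  rw [← e.finrank_eq, Module.finrank_baseChange, ← (TensorProduct.isBaseChange Rp Mp K).finrank_eq,
    (((LocalizedModule.equivTensorProduct q.primeCompl A).baseChange Rp K Mp _)).finrank_eq,
    (TensorProduct.AlgebraTensorModule.cancelBaseChange B Rp K K A).finrank_eq,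
    (TensorProduct.isBaseChange B A K).finrank_eq]

open scoped Pointwise in
/-- The main statement. -/
theorem exists_generator [IsNoetherianRing B] [UniqueFactorizationMonoid A] [IsNoetherianRing A] [Module.Finite B A]
    [Finite G] [FaithfulSMul G A] (q : Ideal B) [q.IsPrime] (hq : q.height = 1) (p : Ideal A) [p.IsPrime]
    [p.LiesOver q] (hres : ∀ a : A, ∃ b c : B, c ∉ q ∧ algebraMap B A c * a - algebraMap B A b ∈ p) :
    ∃ π : B, π ≠ 0 ∧ q = Ideal.span {π} := by
  classical
  have hinj : Function.Injective (algebraMap B A) := (faithfulSMul_iff_algebraMap_injective B A).1 inferInstance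
  haveI : IsDomain B := hinj.isDomain (algebraMap B A)
  haveI : Fintype G := Fintype.ofFinite G
  haveI : IsIntegrallyClosed B := isIntegrallyClosed_invariants (A := A) (G := G)
  haveI : IsGaloisGroup G B A := ⟨inferInstance, inferInstance, inferInstance⟩
  have hq0 : q ≠ ⊥ := fun h => by rw [h, Ideal.height_bot] at hq; exact zero_ne_one hq
  have hp0 : p ≠ ⊥ := fun h => hq0 (by
    rw [Ideal.LiesOver.over (P := p) (p := q), h, Ideal.under_def, ← RingHom.ker_eq_comap_bot]
    exact (RingHom.injective_iff_ker_eq_bot _).1 hinj)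
  obtain ⟨a, hap, ha⟩ := Ideal.IsPrime.exists_mem_prime_of_ne_bot ‹p.IsPrime› hp0
  haveI haprime : (Ideal.span {a}).IsPrime := (Ideal.span_singleton_prime ha.ne_zero).2 ha
  -- `p` is generated by `a`
  have hpa : p = Ideal.span {a} := by
    refine (eq_or_lt_of_le ((Ideal.span_singleton_le_iff_mem _).2 hap)).elim Eq.symm fun hlt => ?_
    exfalso
    have h1 : (Ideal.span {a}).comap (algebraMap B A) < q := by
      rw [Ideal.LiesOver.over (P := p) (p := q)]
      exact Ideal.IsIntegral.comap_lt_comap (R := B) hlt
    have h2 : (Ideal.span {a}).comap (algebraMap B A) ≠ ⊥ :=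
      Ideal.comap_ne_bot_of_integral_mem ha.ne_zero (Ideal.mem_span_singleton_self a) (Algebra.IsIntegral.isIntegral a)
    haveI : ((Ideal.span {a}).comap (algebraMap B A)).IsPrime := Ideal.comap_isPrime _ _
    have h3 := Ideal.height_strict_mono_of_isPrime h1
    rw [hq, Order.lt_one_iff, Ideal.height_eq_zero_iff_eq_bot] at h3
    exact h2 h3
  -- the local ring downstairs
  haveI hdim : Ring.KrullDimLE 1 (Localization.AtPrime q) := Ring.krullDimLE_iff.2 (by
    rw [IsLocalization.AtPrime.ringKrullDim_eq_height q (Localization.AtPrime q), hq]; exact le_rfl)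
  haveI hdvrB : IsDiscreteValuationRing (Localization.AtPrime q) := by
    haveI : IsIntegrallyClosed (Localization.AtPrime q) :=
      isIntegrallyClosed_of_isLocalization _ q.primeCompl q.primeCompl_le_nonZeroDivisors
    have hnf : ¬ IsField (Localization.AtPrime q) := fun h => by
      have := ringKrullDim_eq_zero_of_isField h
      rw [IsLocalization.AtPrime.ringKrullDim_eq_height q (Localization.AtPrime q), hq] at this
      exact one_ne_zero this
    refine ((IsDiscreteValuationRing.TFAE _ hnf).out 3 0).1 ?_
    refine ⟨inferInstance, maximalIdeal _,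
      ⟨fun h => hnf (isField_iff_maximalIdeal_eq.2 h), inferInstance⟩, fun P hP => ?_⟩
    haveI := hP.2
    exact IsLocalRing.eq_maximalIdeal (hP.2.isMaximal_of_ne_bot hP.1)
  -- the local ring upstairs
  let Ap := Localization.AtPrime p
  have hm : maximalIdeal Ap = Ideal.span {algebraMap A Ap a} := by
    rw [← Localization.AtPrime.map_eq_maximalIdeal]
    exact (congrArg (Ideal.map (algebraMap A Ap)) hpa).trans (by rw [Ideal.map_span, Set.image_singleton])
  haveI hdvrA : IsDiscreteValuationRing Ap := by
    have hnf : ¬ IsField Ap := fun h => ha.ne_zero (IsLocalization.injective Ap p.primeCompl_le_nonZeroDivisors (by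
      have h' := (isField_iff_maximalIdeal_eq.1 h)
      rw [hm, Ideal.span_singleton_eq_bot] at h'
      rw [h', map_zero]))
    exact ((IsDiscreteValuationRing.TFAE Ap hnf).out 4 0).1 (show (maximalIdeal Ap).IsPrincipal from ⟨_, hm⟩)
  -- ramification index and inertia degree
  have hf : p.inertiaDeg B = 1 := by
    letI := Localization.AtPrime.algebraOfLiesOver q p
    rw [Ideal.inertiaDeg_eq q p]
    refine finrank_eq_one (1 : p.ResidueField) one_ne_zero fun w => ?_
    obtain ⟨x, y, hy, rfl⟩ := IsFractionRing.div_surjective (A ⧸ p) w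
    obtain ⟨x, rfl⟩ := Ideal.Quotient.mk_surjective x
    obtain ⟨y, rfl⟩ := Ideal.Quotient.mk_surjective y
    have key : ∀ z : A, ∃ κ : q.ResidueField, algebraMap q.ResidueField p.ResidueField κ =
        algebraMap (A ⧸ p) p.ResidueField (Ideal.Quotient.mk p z) := fun z => by
      obtain ⟨b, c, hc, hbc⟩ := hres z
      refine ⟨algebraMap B q.ResidueField b / algebraMap B q.ResidueField c, ?_⟩
      have hc' : algebraMap B q.ResidueField c ≠ 0 := fun h => hc (q.algebraMap_residueField_eq_zero.1 h)
      have he : ∀ b : B, algebraMap q.ResidueField p.ResidueField (algebraMap B q.ResidueField b) =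
          algebraMap A p.ResidueField (algebraMap B A b) := fun b => by
        rw [← IsScalarTower.algebraMap_apply B q.ResidueField p.ResidueField, ← IsScalarTower.algebraMap_apply B A p.ResidueField]
      rw [map_div₀, div_eq_iff ((map_ne_zero _).2 hc'), he, he,
        show algebraMap (A ⧸ p) p.ResidueField (Ideal.Quotient.mk p z) = algebraMap A p.ResidueField z from rfl,
        ← map_mul, eq_comm, ← sub_eq_zero, ← map_sub, p.algebraMap_residueField_eq_zero, mul_comm]
      exact hbc
    obtain ⟨κ, hκ⟩ := key x
    obtain ⟨μ, hμ⟩ := key y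
    exact ⟨κ / μ, by rw [Algebra.smul_def, mul_one, map_div₀, hκ, hμ]⟩
  haveI : Algebra.QuasiFinite B A := inferInstance
  haveI : Fintype (q.primesOver A) := (Algebra.QuasiFinite.finite_primesOver q).fintype
  have hsum := Ideal.sum_ramification_inertia_eq_finrank_fiber q A
  rw [finrank_fiber_eq q, ← IsGaloisGroup.card_eq_finrank' G B A,
    Finset.sum_congr rfl (fun P _ => by
      haveI := P.2.1; haveI := P.2.2
      rw [← Ideal.ramificationIdxIn_eq_ramificationIdx q P.1 G, ← Ideal.inertiaDegIn_eq_inertiaDeg q P.1 G,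
        Ideal.ramificationIdxIn_eq_ramificationIdx q p G, Ideal.inertiaDegIn_eq_inertiaDeg q p G, hf, mul_one]),
    Finset.sum_const, Finset.card_univ, smul_eq_mul, ← Nat.card_eq_fintype_card] at hsum
  let D := MulAction.stabilizer G p
  have horb : Nat.card (q.primesOver A) * Nat.card D = Nat.card G := by
    rw [← Algebra.IsInvariant.orbit_eq_primesOver B A G q p]
    rw [← Nat.card_prod]; exact Nat.card_congr (MulAction.orbitProdStabilizerEquivGroup G p)
  have he : p.ramificationIdx B = Nat.card D :=
    haveI : Nonempty (q.primesOver A) := ⟨⟨p, inferInstance, inferInstance⟩⟩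
    Nat.eq_of_mul_eq_mul_left (Nat.card_pos (α := q.primesOver A)) (hsum.trans horb.symm)
  -- divisibility of elements of `q`
  have hdiv : ∀ x ∈ q, a ^ Nat.card D ∣ algebraMap B A x := by
    intro x hx
    have hne : q.map (algebraMap B Ap) ≠ ⊥ := fun h => by
      obtain ⟨y, hy, hy0⟩ := Submodule.exists_mem_ne_zero_of_ne_bot hq0
      have := Ideal.mem_map_of_mem (algebraMap B Ap) hy
      rw [h, Ideal.mem_bot, IsScalarTower.algebraMap_apply B A Ap] at this
      exact hy0 (hinj ((IsLocalization.injective Ap p.primeCompl_le_nonZeroDivisors (this.trans (map_zero _).symm)).trans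
        (map_zero _).symm))
    obtain ⟨m, hm'⟩ := exists_maximalIdeal_pow_eq_of_principal Ap (show (maximalIdeal Ap).IsPrincipal from ⟨_, hm⟩) _ hne
    have hme : p.ramificationIdx B = m := by
      rw [Ideal.ramificationIdx_eq q p, hm', hdvrA.length_quotient_pow_maximalIdeal, ENat.toNat_natCast]
    have hxm := Ideal.mem_map_of_mem (algebraMap B Ap) hx
    rw [hm', ← hme, he, hm, Ideal.span_singleton_pow, Ideal.mem_span_singleton, IsScalarTower.algebraMap_apply B A Ap,
      ← map_pow] at hxm
    obtain ⟨t, ht⟩ := hxm
    obtain ⟨t₀, ⟨c, hc⟩, rfl⟩ := IsLocalization.exists_mk'_eq p.primeCompl t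
    rw [← IsLocalization.mk'_one (M := p.primeCompl) Ap (a ^ Nat.card D), ← IsLocalization.mk'_mul,
      IsLocalization.eq_mk'_iff_mul_eq, one_mul, ← map_mul] at ht
    have hmul : a ^ Nat.card D * t₀ = algebraMap B A x * c :=
      (IsLocalization.injective Ap p.primeCompl_le_nonZeroDivisors ht).symm
    exact (ha.pow_dvd_of_dvd_mul_right (Nat.card D) (fun hd => hc (hpa ▸ Ideal.mem_span_singleton.2 hd)) ⟨t₀, hmul.symm⟩)
  -- the norm of `a`
  set N := ∏ g : G, g • a with hN
  have hNinv : ∀ h : G, h • N = N := fun h => by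
    rw [hN, Finset.smul_prod']
    exact Fintype.prod_equiv (Equiv.mulLeft h) _ _ fun g => (mul_smul h g a).symm
  have hN0 : N ≠ 0 := Finset.prod_ne_zero_iff.2 fun g _ h => ha.ne_zero (by
    rw [← inv_smul_smul g a, h, smul_zero])
  obtain ⟨π, hπ⟩ := Algebra.IsInvariant.isInvariant (A := B) (G := G) N hNinv
  refine ⟨π, fun h => hN0 (by rw [← hπ, h, map_zero]), le_antisymm (fun x hx => ?_) ?_⟩
  · have hprime : ∀ g : G, Prime (g • a) := fun g =>
      (MulEquiv.prime_iff (MulSemiringAction.toRingAut G A g).toMulEquiv).2 ha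
    have hdvdN : N ∣ algebraMap B A x := by
      rw [hN, ← Finset.prod_fiberwise Finset.univ (fun g : G => (g : G ⧸ D)) (fun g => g • a)]
      refine Finset.prod_dvd_of_isRelPrime (fun c _ d _ hcd => ?_) fun c _ => ?_
      · refine IsRelPrime.prod_left fun g hg => IsRelPrime.prod_right fun g' hg' => ?_
        refine (hprime g).irreducible.isRelPrime_iff_not_dvd.2 fun hdvd => hcd ?_
        have has := (hprime g).associated_of_dvd (hprime g') hdvd
        rw [← (Finset.mem_filter.1 hg).2, ← (Finset.mem_filter.1 hg').2, QuotientGroup.eq]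
        show g⁻¹ * g' ∈ MulAction.stabilizer G p
        rw [MulAction.mem_stabilizer_iff, mul_smul, inv_smul_eq_iff, hpa, Ideal.pointwise_smul_def, Ideal.pointwise_smul_def,
          Ideal.map_span, Ideal.map_span, Set.image_singleton, Set.image_singleton]
        exact (Ideal.span_singleton_eq_span_singleton.2 has).symm
      · have hassoc : ∀ g ∈ Finset.univ.filter (fun g : G => (g : G ⧸ D) = c), Associated (g • a) (c.out • a) := by
          intro g hg
          have h1 : g⁻¹ * c.out ∈ D := QuotientGroup.eq.1 ((Finset.mem_filter.1 hg).2.trans c.out_eq.symm)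
          rw [MulAction.mem_stabilizer_iff, mul_smul, inv_smul_eq_iff, hpa, Ideal.pointwise_smul_def, Ideal.pointwise_smul_def,
            Ideal.map_span, Ideal.map_span, Set.image_singleton, Set.image_singleton, Ideal.span_singleton_eq_span_singleton] at h1
          exact h1.symm
        refine (Associated.prod _ _ _ hassoc).dvd.trans ?_
        rw [Finset.prod_const]
        have hcard : (Finset.univ.filter (fun g : G => (g : G ⧸ D) = c)).card = Nat.card D := by
          rw [Nat.card_eq_fintype_card, ← Finset.card_univ]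
          refine Finset.card_bij' (fun g hg => (⟨c.out⁻¹ * g, ?_⟩ : D)) (fun d _ => c.out * d.1)
            (fun _ _ => Finset.mem_univ _) (fun d _ => Finset.mem_filter.2 ⟨Finset.mem_univ _, ?_⟩)
            (fun g _ => mul_inv_cancel_left _ _) (fun d _ => Subtype.ext (inv_mul_cancel_left _ _))
          · exact QuotientGroup.eq.1 (c.out_eq.trans (Finset.mem_filter.1 hg).2.symm)
          · exact (QuotientGroup.mk_mul_of_mem _ d.2).trans c.out_eq
        rw [hcard, ← smul_algebraMap c.out x, ← smul_pow']
        exact map_dvd (MulSemiringAction.toRingHom G A c.out) (hdiv x hx)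
    obtain ⟨y, hy⟩ := hdvdN
    obtain ⟨y₀, hy₀⟩ := Algebra.IsInvariant.isInvariant (A := B) (G := G) y fun g => by
      refine mul_left_cancel₀ hN0 ?_
      conv_lhs => rw [← hNinv g]
      rw [← smul_mul', ← hy, smul_algebraMap]
    exact Ideal.mem_span_singleton.2 ⟨y₀, hinj (by rw [map_mul, hπ, hy₀, hy])⟩
  · rw [Ideal.span_singleton_le_iff_mem, Ideal.LiesOver.over (P := p) (p := q), Ideal.mem_comap, hπ, hN,
      ← Finset.mul_prod_erase _ _ (Finset.mem_univ (1 : G)), one_smul]
    exact Ideal.mul_mem_right _ _ hap

end Groth.Agent.InvPrincipal
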